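import Mathlib.RingTheory.GradedAlgebra.Radical
import Mathlib.RingTheory.GradedAlgebra.Homogeneous.Ideal
import Mathlib.Algebra.GradedMonoid

/-! Homogeneous prime avoidance inside a homogeneous ideal. -/

set_option autoImplicit false

universe u

namespace Groth.Agent.ProjThick19

variable {R A : Type u} [CommRing R] [CommRing A] [Algebra R A]
  {𝒜 : ℕ → Submodule R A} [GradedAlgebra 𝒜]

theorem exists_homogeneous_of_not_le {I P : Ideal A} (hI : I.IsHomogeneous 𝒜) (h : ¬ I ≤ P) :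
    ∃ d a, a ∈ I ∧ a ∈ 𝒜 d ∧ a ∉ P := by
  classical
  obtain ⟨x, hx, hxP⟩ := SetLike.not_le_iff_exists.mp h
  by_contra! hc
  apply hxP
  rw [← DirectSum.sum_support_decompose 𝒜 x]
  exact P.sum_mem fun d _ => hc d _ (hI d hx) (DirectSum.decompose 𝒜 x d).2

theorem exists_homogeneous_notMem {I : Ideal A} (hI : I.IsHomogeneous 𝒜)
    (hI0 : ∀ a ∈ I, a ∈ 𝒜 0 → a = 0) (s : Finset (Ideal A))
    (hs : ∀ P ∈ s, P.IsPrime ∧ ¬ I ≤ P) :
    ∃ e, 0 < e ∧ ∃ a ∈ I, a ∈ 𝒜 e ∧ ∀ P ∈ s, a ∉ P := by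
  classical
  induction s using Finset.strongInduction with
  | _ s ih =>
  by_cases hred : ∀ P ∈ s, ∀ Q ∈ s, Q ≠ P → ∃ d b, b ∈ Q ∧ b ∈ 𝒜 d ∧ b ∉ P
  · have h1 : ∀ P ∈ s, ∃ d c, 0 < d ∧ c ∈ I ∧ c ∈ 𝒜 d ∧ c ∉ P ∧ ∀ Q ∈ s, Q ≠ P → c ∈ Q := by
      intro P hP
      obtain ⟨d, a, haI, had, haP⟩ := exists_homogeneous_of_not_le hI (hs P hP).2
      have hd : 0 < d := by
        rcases Nat.eq_zero_or_pos d with rfl | h
        · exact absurd (hI0 a haI had ▸ P.zero_mem) haP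
        · exact h
      choose! dg b hbQ hbd hbP using fun Q hQ => hred P hP Q (Finset.mem_of_mem_erase hQ) (Finset.ne_of_mem_erase hQ)
      refine ⟨d + ∑ Q ∈ s.erase P, dg Q, a * ∏ Q ∈ s.erase P, b Q, by omega, I.mul_mem_right _ haI,
        SetLike.mul_mem_graded had (SetLike.prod_mem_graded _ _ _ fun Q hQ => hbd Q hQ), ?_, ?_⟩
      · haveI := (hs P hP).1
        intro h
        rcases Ideal.IsPrime.mem_or_mem ‹P.IsPrime› h with h | h
        · exact haP h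
        · obtain ⟨Q, hQ, hQP⟩ := Ideal.IsPrime.prod_mem_iff.mp h
          exact hbP Q hQ hQP
      · intro Q hQ hne
        exact Q.mul_mem_left _ (Ideal.prod_mem Q (Finset.mem_erase.mpr ⟨hne, hQ⟩)
          (hbQ Q (Finset.mem_erase.mpr ⟨hne, hQ⟩)))
    choose! d c hd hcI hcd hcP hcQ using h1
    set D := ∏ P ∈ s, d P
    have hD : 0 < D := Finset.prod_pos hd
    have hdvd : ∀ P ∈ s, d P ∣ D := fun P hP => Finset.dvd_prod_of_mem _ hP
    have hq : ∀ P ∈ s, 0 < D / d P := fun P hP =>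
      Nat.div_pos (Nat.le_of_dvd hD (hdvd P hP)) (hd P hP)
    refine ⟨D, hD, ∑ P ∈ s, c P ^ (D / d P), I.sum_mem fun P hP => I.pow_mem_of_mem (hcI P hP) _ (hq P hP),
      sum_mem fun P hP => ?_, fun P hP h => ?_⟩
    · have := SetLike.pow_mem_graded (D / d P) (hcd P hP)
      rwa [smul_eq_mul, Nat.div_mul_cancel (hdvd P hP)] at this
    · rw [← Finset.add_sum_erase _ _ hP] at h
      exact hcP P hP ((hs P hP).1.mem_of_pow_mem _ ((P.add_mem_iff_left (P.sum_mem fun Q hQ =>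
        P.pow_mem_of_mem (hcQ Q (Finset.mem_of_mem_erase hQ) P hP (Finset.ne_of_mem_erase hQ).symm) _
          (hq Q (Finset.mem_of_mem_erase hQ)))).mp h))
  · push Not at hred
    obtain ⟨P, hP, Q, hQ, hne, hle⟩ := hred
    obtain ⟨e, he, a, haI, hae, ha⟩ := ih (s.erase Q) (Finset.erase_ssubset hQ)
      fun P' hP' => hs P' (Finset.mem_of_mem_erase hP')
    refine ⟨e, he, a, haI, hae, fun P' hP' h => ?_⟩
    rcases eq_or_ne P' Q with rfl | hne'
    · exact ha P (Finset.mem_erase.mpr ⟨hne.symm, hP⟩) (hle e a h hae)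
    · exact ha P' (Finset.mem_erase.mpr ⟨hne', hP'⟩) h

end Groth.Agent.ProjThick19
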