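import Groth.Agent.Lib.ProjClosed.Quot
import Mathlib.RingTheory.MvPolynomial.Homogeneous
import Mathlib.RingTheory.LocalRing.Module
import Mathlib.RingTheory.RingHom.Flat
import Mathlib.RingTheory.Flat.EquationalCriterion
import Mathlib.LinearAlgebra.TensorProduct.Quotient
import Mathlib.RingTheory.GradedAlgebra.HomogeneousLocalization

/-! Flatness of the graded pieces after dividing by a form regular on the closed fibre. -/

set_option autoImplicit false
set_option maxHeartbeats 800000

universe u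

open MvPolynomial TensorProduct

namespace Groth.Agent.ProjThick19

attribute [local instance] MvPolynomial.gradedAlgebra

section Coker

variable {A : Type u} [CommRing A] [IsLocalRing A] {M N Q : Type u} [AddCommGroup M] [Module A M]
  [AddCommGroup N] [Module A N] [AddCommGroup Q] [Module A Q]

theorem flat_coker [Module.Finite A M] [Module.Finite A N] [Module.Flat A N] (u : M →ₗ[A] N)
    (π : N →ₗ[A] Q) (hπ : Function.Surjective π) (hex : Function.Exact u π)
    (hu : ∀ x : M, u x ∈ IsLocalRing.maximalIdeal A • (⊤ : Submodule A N) →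
      x ∈ IsLocalRing.maximalIdeal A • (⊤ : Submodule A M)) : Module.Flat A Q := by
  haveI : Module.Free A N := Module.free_of_flat_of_isLocalRing
  have hinj : Function.Injective (u.lTensor (IsLocalRing.ResidueField A)) := by
    have hone : ∀ z : IsLocalRing.ResidueField A ⊗[A] M, ∃ x, (1 : IsLocalRing.ResidueField A) ⊗ₜ[A] x = z :=
      TensorProduct.mk_surjective A M _ IsLocalRing.residue_surjective
    rw [injective_iff_map_eq_zero]
    intro z hz
    obtain ⟨x, rfl⟩ := hone z
    rw [LinearMap.lTensor_tmul] at hz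
    have key : ∀ {P : Type u} [AddCommGroup P] [Module A P] (y : P),
        (1 : IsLocalRing.ResidueField A) ⊗ₜ[A] y = 0 ↔ y ∈ IsLocalRing.maximalIdeal A • (⊤ : Submodule A P) := by
      intro P _ _ y
      rw [← Submodule.Quotient.mk_eq_zero, ← quotTensorEquivQuotSMul_mk_one_tmul (IsLocalRing.maximalIdeal A) y,
        LinearEquiv.map_eq_zero_iff]
      rfl
    exact (key x).mpr (hu x ((key (u x)).mp hz))
  obtain ⟨l, hl⟩ := (IsLocalRing.split_injective_iff_lTensor_residueField_injective u).mpr hinj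
  let s₀ : N →ₗ[A] N := LinearMap.id - u ∘ₗ l
  have hs₀ : LinearMap.ker π ≤ LinearMap.ker s₀ := by
    intro y hy
    obtain ⟨x, rfl⟩ := (hex y).mp hy
    have := LinearMap.congr_fun hl x
    simp only [LinearMap.comp_apply, LinearMap.id_coe, id_eq] at this
    simp [s₀, this]
  let s : Q →ₗ[A] N := (LinearMap.ker π).liftQ s₀ hs₀ ∘ₗ (π.quotKerEquivOfSurjective hπ).symm.toLinearMap
  have hs : π ∘ₗ s = LinearMap.id := by
    ext y
    obtain ⟨y, rfl⟩ := hπ y
    have e : (π.quotKerEquivOfSurjective hπ).symm (π y) = Submodule.Quotient.mk y :=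
      (LinearEquiv.symm_apply_eq _).mpr rfl
    simp [s, s₀, e, hex.apply_apply_eq_zero]
  haveI := Module.Projective.of_split s π hs
  infer_instance

end Coker

section Step

variable {A : Type u} [CommRing A] [IsLocalRing A] {n : ℕ}

local notation "𝒢" => homogeneousSubmodule (Fin (n + 1)) A
local notation "res" => MvPolynomial.map (σ := Fin (n + 1)) (IsLocalRing.residue A)

instance (d : ℕ) : Module.Finite A (homogeneousSubmodule (Fin (n + 1)) A d) :=
  Module.Finite.iff_fg.mpr (homogeneousSubmodule_fg (Fin (n + 1)) A d)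

open ProjClosed in
instance finite_quot (J : HomogeneousIdeal 𝒢) (d : ℕ) : Module.Finite A (quotGrading J d) :=
  Module.Finite.iff_fg.mpr ((homogeneousSubmodule_fg (Fin (n + 1)) A d).map _)

/-- a form with coefficients in the maximal ideal is `𝔪` times forms of the same degree -/
theorem mem_smul_top_of_map_eq_zero {d : ℕ} (a : 𝒢 d) (ha : res a.1 = 0) :
    a ∈ IsLocalRing.maximalIdeal A • (⊤ : Submodule A (𝒢 d)) := by
  classical
  have hc : ∀ v, coeff v a.1 ∈ IsLocalRing.maximalIdeal A := fun v => by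
    rw [← IsLocalRing.residue_eq_zero_iff, ← coeff_map, ha, coeff_zero]
  have hdeg : ∀ v ∈ a.1.support, v.degree = d := fun v hv => by
    rw [Finsupp.degree_eq_weight_one]; exact a.2 (mem_support_iff.mp hv)
  have e : a = ∑ v ∈ a.1.support.attach,
      coeff v.1 a.1 • (⟨monomial v.1 1, isHomogeneous_monomial _ (hdeg v.1 v.2)⟩ : 𝒢 d) := by
    apply Subtype.ext
    rw [Submodule.coe_sum]
    simp only [Submodule.coe_smul, smul_monomial, smul_eq_mul, _root_.mul_one]
    rw [Finset.sum_attach a.1.support fun v => monomial v (coeff v a.1)]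
    exact a.1.as_sum
  rw [e]
  exact Submodule.sum_mem _ fun v _ => Submodule.smul_mem_smul (hc v.1) trivial

open ProjClosed in
theorem flat_step (J J' : HomogeneousIdeal 𝒢) {f : MvPolynomial (Fin (n + 1)) A} {e : ℕ}
    (hf : f ∈ 𝒢 e) (hJ' : J'.toIdeal = J.toIdeal ⊔ Ideal.span {f})
    (hflat : ∀ d, Module.Flat A (quotGrading J d))
    (hnzd : ∀ x, res f * x ∈ J.toIdeal.map res → x ∈ J.toIdeal.map res) :
    ∀ d, Module.Flat A (quotGrading J' d) := by
  classical
  intro d
  have hle : J.toIdeal ≤ J'.toIdeal := hJ' ▸ le_sup_left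
  have hfJ' : f ∈ J'.toIdeal := hJ' ▸ Ideal.mem_sup_right (Ideal.mem_span_singleton_self f)
  let Ψ := Ideal.Quotient.factorₐ A hle
  have hΨ : ∀ x ∈ quotGrading J d, Ψ.toLinearMap x ∈ quotGrading J' d := by
    rintro _ ⟨a, ha, rfl⟩; exact ⟨a, ha, rfl⟩
  let π : quotGrading J d →ₗ[A] quotGrading J' d := Ψ.toLinearMap.restrict hΨ
  have hπ : Function.Surjective π := by
    rintro ⟨_, a, ha, rfl⟩
    exact ⟨⟨_, a, ha, rfl⟩, Subtype.ext rfl⟩
  -- decomposition of a form in the enlarged ideal
  have hdec : ∀ a ∈ 𝒢 d, a ∈ J'.toIdeal →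
      (d < e → a ∈ J.toIdeal) ∧ (e ≤ d → ∃ y ∈ 𝒢 (d - e), a - f * y ∈ J.toIdeal) := by
    intro a had haJ
    rw [hJ'] at haJ
    obtain ⟨j, hj, w, hw, rfl⟩ := Submodule.mem_sup.mp haJ
    obtain ⟨y, rfl⟩ := Ideal.mem_span_singleton'.mp hw
    have h1 : (j + y * f) = (DirectSum.decompose 𝒢 j d : MvPolynomial (Fin (n + 1)) A)
        + (DirectSum.decompose 𝒢 (f * y) d : MvPolynomial (Fin (n + 1)) A) := by
      conv_lhs => rw [← DirectSum.decompose_of_mem_same 𝒢 had]
      rw [DirectSum.decompose_add, DirectSum.add_apply, Submodule.coe_add, mul_comm y f]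
    have h2 := J.isHomogeneous d hj
    constructor
    · intro hde
      rw [h1, DirectSum.coe_decompose_mul_of_left_mem_of_not_le 𝒢 hf (not_le.mpr hde), add_zero]
      exact h2
    · intro hed
      refine ⟨_, (DirectSum.decompose 𝒢 y (d - e)).2, ?_⟩
      rw [h1, DirectSum.coe_decompose_mul_of_left_mem_of_le 𝒢 hf hed, add_sub_cancel_right]
      exact h2
  haveI := hflat d
  rcases lt_or_ge d e with hde | hed
  · refine Module.Flat.of_linearEquiv (LinearEquiv.ofBijective π ⟨?_, hπ⟩).symm
    rw [injective_iff_map_eq_zero]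
    rintro ⟨_, a, ha, rfl⟩ h0
    refine Subtype.ext (Ideal.Quotient.eq_zero_iff_mem.mpr ((hdec a ha ?_).1 hde))
    exact Ideal.Quotient.eq_zero_iff_mem.mp (congrArg Subtype.val h0)
  obtain ⟨c, rfl⟩ := Nat.exists_eq_add_of_le hed
  let Fm := LinearMap.mulLeft A (Ideal.Quotient.mk J.toIdeal f)
  have hFm : ∀ x ∈ quotGrading J c, Fm x ∈ quotGrading J (e + c) := by
    rintro _ ⟨a, ha, rfl⟩
    exact ⟨f * a, SetLike.mul_mem_graded hf ha, map_mul (Ideal.Quotient.mk J.toIdeal) f a⟩
  let u : quotGrading J c →ₗ[A] quotGrading J (e + c) := Fm.restrict hFm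
  refine flat_coker u π hπ ?_ ?_
  · rintro ⟨_, a, ha, rfl⟩
    constructor
    · intro h0
      obtain ⟨y, hy, hay⟩ := (hdec a ha (Ideal.Quotient.eq_zero_iff_mem.mp (congrArg Subtype.val h0))).2 hed
      rw [Nat.add_sub_cancel_left] at hy
      refine ⟨⟨_, y, hy, rfl⟩, Subtype.ext ?_⟩
      exact ((map_mul (Ideal.Quotient.mk J.toIdeal) f y).symm.trans (Ideal.Quotient.eq.mpr hay).symm)
    · rintro ⟨⟨_, y, hy, rfl⟩, h⟩
      refine Subtype.ext ?_
      rw [← h]
      exact (congrArg Ψ (map_mul (Ideal.Quotient.mk J.toIdeal) f y).symm).trans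
        (Ideal.Quotient.eq_zero_iff_mem.mpr (J'.toIdeal.mul_mem_right _ hfJ'))
  · rintro ⟨_, a, ha, rfl⟩ hu
    let ρ : 𝒢 (e + c) →ₗ[A] quotGrading J (e + c) :=
      (Ideal.Quotient.mkₐ A J.toIdeal).toLinearMap.submoduleMap _
    let ρ' : 𝒢 c →ₗ[A] quotGrading J c := (Ideal.Quotient.mkₐ A J.toIdeal).toLinearMap.submoduleMap _
    have htop : (⊤ : Submodule A (quotGrading J (e + c))) = Submodule.map ρ ⊤ := by
      rw [Submodule.map_top, LinearMap.range_eq_top.mpr]
      rintro ⟨_, b, hb, rfl⟩; exact ⟨⟨b, hb⟩, rfl⟩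
    rw [htop, ← Submodule.map_smul''] at hu
    obtain ⟨b, hb, hbu⟩ := hu
    have hb0 : res b.1 = 0 := by
      refine Submodule.smul_induction_on (p := fun z : 𝒢 (e + c) => res z.1 = 0) hb
        (fun r hr x _ => ?_) (fun x y hx hy => ?_)
      · simp only [Submodule.coe_smul, smul_eq_C_mul, map_mul, map_C,
          (IsLocalRing.residue_eq_zero_iff r).mpr hr, map_zero, zero_mul]
      · simp [hx, hy]
    have h1 : f * a - b.1 ∈ J.toIdeal := by
      refine Ideal.Quotient.eq.mp ((map_mul (Ideal.Quotient.mk J.toIdeal) f a).trans ?_)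
      exact (congrArg Subtype.val hbu).symm
    have h2 : res a ∈ J.toIdeal.map res := by
      refine hnzd _ ?_
      have := Ideal.mem_map_of_mem res h1
      rwa [map_sub, map_mul, hb0, sub_zero] at this
    obtain ⟨j, hj, hja⟩ := (Ideal.mem_map_iff_of_surjective res
      (MvPolynomial.map_surjective _ IsLocalRing.residue_surjective)).mp h2
    let jd : 𝒢 c := DirectSum.decompose 𝒢 j c
    have hjd : res jd.1 = res a := by
      have e1 : (jd : MvPolynomial (Fin (n + 1)) A) = homogeneousComponent c j :=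
        MvPolynomial.decomposition.decompose'_apply j c
      ext v
      have hha : res a = homogeneousComponent c (res a) :=
        (homogeneousComponent_of_mem (IsHomogeneous.map ha _)).trans (if_pos rfl) |>.symm
      rw [hha, e1, coeff_map, coeff_homogeneousComponent, coeff_homogeneousComponent, ← hja, coeff_map]
      split <;> simp
    have h3 := mem_smul_top_of_map_eq_zero (⟨a, ha⟩ - jd) (by
      rw [Submodule.coe_sub, map_sub, hjd, sub_self])
    have h4 := Submodule.mem_map_of_mem (f := ρ') h3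
    rw [Submodule.map_smul''] at h4
    refine (Submodule.smul_mono le_rfl (le_top (a := Submodule.map ρ' ⊤))) ?_
    convert h4 using 1
    refine Subtype.ext ?_
    show Ideal.Quotient.mk J.toIdeal a = Ideal.Quotient.mk J.toIdeal (a - jd.1)
    rw [map_sub, Ideal.Quotient.eq_zero_iff_mem.mpr (J.isHomogeneous c hj), sub_zero]

end Step

section Away

variable {A B : Type u} [CommRing A] [CommRing B] [Algebra A B]
  {𝒜 : ℕ → Submodule A B} [GradedAlgebra 𝒜]

/-- `A → 𝒜_(g)` is flat when the pieces of `𝒜` are flat -/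
theorem flat_away (hflat : ∀ d, Module.Flat A (𝒜 d)) {g : B} {e : ℕ} (hg : g ∈ 𝒜 e) :
    ((HomogeneousLocalization.fromZeroRingHom 𝒜 (Submonoid.powers g)).comp
      (algebraMap A (𝒜 0))).Flat := by
  letI : Algebra A (HomogeneousLocalization.Away 𝒜 g) :=
    ((HomogeneousLocalization.fromZeroRingHom 𝒜 (Submonoid.powers g)).comp (algebraMap A (𝒜 0))).toAlgebra
  show Module.Flat A (HomogeneousLocalization.Away 𝒜 g)
  refine Module.Flat.of_forall_isTrivialRelation fun {l r x} h => ?_
  let al := algebraMap A (HomogeneousLocalization.Away 𝒜 g)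
  have hval : ∀ (r : A) (z : HomogeneousLocalization.Away 𝒜 g), (al r * z).val = r • z.val := fun r z => by
    rw [Algebra.smul_def (A := Localization (Submonoid.powers g))]
    erw [HomogeneousLocalization.val_mul]
    congr 1
  have hvsum : ∀ {q : ℕ} (r : Fin q → A) (z : Fin q → HomogeneousLocalization.Away 𝒜 g),
      (∑ i, al (r i) * z i).val = ∑ i, r i • (z i).val := fun r z => by
    rw [← HomogeneousLocalization.algebraMap_apply, map_sum]
    exact Finset.sum_congr rfl fun i _ => by rw [HomogeneousLocalization.algebraMap_apply, hval]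
  choose m a ha hx using fun i => HomogeneousLocalization.Away.mk_surjective 𝒜 hg (x i)
  let M := ∑ i, m i
  have hM : ∀ i, m i ≤ M := fun i => Finset.single_le_sum (fun j _ => Nat.zero_le _) (Finset.mem_univ i)
  have hb : ∀ i, g ^ (M - m i) * a i ∈ 𝒜 (M • e) := fun i => by
    have := SetLike.mul_mem_graded (SetLike.pow_mem_graded (M - m i) hg) (ha i)
    rwa [← add_nsmul, Nat.sub_add_cancel (hM i)] at this
  have hsum : (∑ i, al (r i) * x i).val = 0 :=
    (congrArg HomogeneousLocalization.val ((Finset.sum_congr rfl fun i _ => (Algebra.smul_def _ _).symm).trans h)).trans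
      (HomogeneousLocalization.val_zero)
  have hxv : ∀ i, (x i).val = Localization.mk (g ^ (M - m i) * a i) ⟨g ^ M, pow_mem (Submonoid.mem_powers g) M⟩ := fun i => by
    rw [← hx i, HomogeneousLocalization.Away.val_mk, Localization.mk_eq_mk_iff, Localization.r_iff_exists]
    refine ⟨1, ?_⟩
    simp only [OneMemClass.coe_one, _root_.one_mul]
    rw [← _root_.mul_assoc, ← pow_add, Nat.add_sub_cancel' (hM i)]
  have hvs : (∑ i, al (r i) * x i).val = Localization.mk (∑ i, r i • (g ^ (M - m i) * a i)) ⟨g ^ M, pow_mem (Submonoid.mem_powers g) M⟩ := by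
    rw [hvsum, Localization.mk_sum]
    refine Finset.sum_congr rfl fun i _ => ?_
    rw [hxv, Localization.smul_mk]
  rw [hvs, ← Localization.mk_zero (⟨g ^ M, pow_mem (Submonoid.mem_powers g) M⟩ : Submonoid.powers g), Localization.mk_eq_mk_iff,
    Localization.r_iff_exists] at hsum
  obtain ⟨⟨_, k, rfl⟩, hk⟩ := hsum
  simp only [mul_zero] at hk
  have hc : ∀ i, g ^ k * g ^ M * (g ^ (M - m i) * a i) ∈ 𝒜 ((k + M + M) • e) := fun i => by
    rw [← pow_add, add_nsmul]
    exact SetLike.mul_mem_graded (SetLike.pow_mem_graded (k + M) hg) (hb i)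
  let ξ : Fin l → 𝒜 ((k + M + M) • e) := fun i => ⟨_, hc i⟩
  have hrel : ∑ i, r i • ξ i = 0 := by
    apply Subtype.ext
    simp only [Submodule.coe_sum, Submodule.coe_smul, ξ, ZeroMemClass.coe_zero]
    rw [Finset.sum_congr rfl fun i _ => (mul_smul_comm (r i) _ _).symm, ← Finset.mul_sum, _root_.mul_assoc]
    exact hk
  haveI := hflat ((k + M + M) • e)
  obtain ⟨K, aij, y, hy, hay⟩ := Module.Flat.isTrivialRelation_of_sum_smul_eq_zero hrel
  refine ⟨K, aij, fun j => HomogeneousLocalization.Away.mk 𝒜 hg (k + M + M) (y j).1 (y j).2,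
    fun i => HomogeneousLocalization.val_injective _ ?_, hay⟩
  refine Eq.trans ?_ ((congrArg HomogeneousLocalization.val
    (Finset.sum_congr rfl fun j _ => Algebra.smul_def _ _)).trans (hvsum _ _)).symm
  simp only [HomogeneousLocalization.Away.val_mk, Localization.smul_mk]
  rw [← Localization.mk_sum, hxv i, Localization.mk_eq_mk_iff, Localization.r_iff_exists]
  refine ⟨1, ?_⟩
  have := congrArg Subtype.val (hy i)
  simp only [Submodule.coe_sum, Submodule.coe_smul, ξ] at this
  simp only [OneMemClass.coe_one, _root_.one_mul, ← this]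
  rw [show k + M + M = M + (k + M) by omega, pow_add, pow_add]
  ring

end Away

end Groth.Agent.ProjThick19
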