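import Groth.Agent.Lib.ProjThick19.Avoid
import Groth.Agent.Lib.ProjThick19.Step
import Groth.Agent.Lib.Sect6.RegularQuot
import Groth.Agent.Lib.Depth.More
import Mathlib.RingTheory.Regular.IsSMulRegular

/-! Homogeneous forms in an ideal, a regular sequence on the closed fibre, with flat quotient. -/

set_option autoImplicit false
set_option maxHeartbeats 800000

universe u

open MvPolynomial RingTheory.Sequence Pointwise

namespace Groth.Agent.ProjThick19

attribute [local instance] MvPolynomial.gradedAlgebra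

section Field

variable {k : Type u} [Field k] {n : ℕ}

theorem constantCoeff_eq_zero_of_homogeneous {I : Ideal (MvPolynomial (Fin (n + 1)) k)}
    (hI : I.IsHomogeneous (homogeneousSubmodule (Fin (n + 1)) k))
    (hI0 : ∀ a ∈ I, a ∈ homogeneousSubmodule (Fin (n + 1)) k 0 → a = 0) :
    I ≤ RingHom.ker (constantCoeff (R := k) (σ := Fin (n + 1))) := by
  classical
  intro a ha
  have h := hI0 _ (hI 0 ha) (DirectSum.decompose (homogeneousSubmodule (Fin (n + 1)) k) a 0).2
  rw [RingHom.mem_ker, constantCoeff_eq]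
  have e : (DirectSum.decompose (homogeneousSubmodule (Fin (n + 1)) k) a 0 : MvPolynomial (Fin (n + 1)) k)
      = homogeneousComponent 0 a := MvPolynomial.decomposition.decompose'_apply a 0
  rwa [e, homogeneousComponent_zero, C_eq_zero] at h

/-- a form in `I` regular modulo a regular sequence in `I` shorter than the heights over `I` -/
theorem exists_regular_form (I : Ideal (MvPolynomial (Fin (n + 1)) k))
    (hI : I.IsHomogeneous (homogeneousSubmodule (Fin (n + 1)) k))
    (hI0 : ∀ a ∈ I, a ∈ homogeneousSubmodule (Fin (n + 1)) k 0 → a = 0)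
    (c : ℕ) (hht : ∀ P : Ideal (MvPolynomial (Fin (n + 1)) k), P.IsPrime → I ≤ P → (c : ℕ∞) ≤ P.height)
    (rs : List (MvPolynomial (Fin (n + 1)) k)) (hrs : IsWeaklyRegular (MvPolynomial (Fin (n + 1)) k) rs)
    (hmem : ∀ r ∈ rs, r ∈ I) (hlen : rs.length < c) :
    ∃ e, 0 < e ∧ ∃ f ∈ I, f ∈ homogeneousSubmodule (Fin (n + 1)) k e ∧
      (∀ x, f * x ∈ Ideal.ofList rs → x ∈ Ideal.ofList rs) ∧
      IsWeaklyRegular (MvPolynomial (Fin (n + 1)) k) (rs ++ [f]) := by
  classical
  let M := (MvPolynomial (Fin (n + 1)) k) ⧸ (Ideal.ofList rs • ⊤ : Submodule (MvPolynomial (Fin (n + 1)) k) (MvPolynomial (Fin (n + 1)) k))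
  have hd : (1 : ℕ∞) ≤ LocCoh.idealDepth I M := by
    have h1 : ((1 + rs.length : ℕ) : ℕ∞) ≤ LocCoh.idealDepth I (MvPolynomial (Fin (n + 1)) k) :=
      (Sect6.natCast_le_idealDepth_iff I _).2 fun P hP hle =>
        (show ((1 + rs.length : ℕ) : ℕ∞) ≤ (c : ℕ∞) from by exact_mod_cast (by omega : 1 + rs.length ≤ c)).trans
          (hht P hP hle)
    rw [← DepthLib.idealDepth_quot_add_length hrs hmem, Nat.cast_add, Nat.cast_one] at h1
    exact (ENat.add_le_add_iff_right (ENat.natCast_ne_top rs.length)).1 h1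
  have hJI : Ideal.ofList rs ≤ I := Ideal.span_le.2 hmem
  have htop : I • (⊤ : Submodule (MvPolynomial (Fin (n + 1)) k) M) ≠ ⊤ := by
    rw [Ne, DepthLib.smul_top_quot_eq_top_iff hJI, smul_eq_mul, Ideal.mul_top]
    intro h
    have := constantCoeff_eq_zero_of_homogeneous hI hI0 (h ▸ Submodule.mem_top : (1 : (MvPolynomial (Fin (n + 1)) k)) ∈ I)
    simp at this
  obtain ⟨x, hxI, hx⟩ := DepthLib.exists_isSMulRegular_of_one_le_idealDepth htop hd
  have hfin : (associatedPrimes (MvPolynomial (Fin (n + 1)) k) M).Finite := associatedPrimes.finite (MvPolynomial (Fin (n + 1)) k) M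
  have havoid : ∀ P ∈ hfin.toFinset, P.IsPrime ∧ ¬ I ≤ P := fun P hP => by
    rw [Set.Finite.mem_toFinset] at hP
    refine ⟨IsAssociatedPrime.isPrime hP, fun hle => ?_⟩
    have : x ∈ ⋃ p ∈ associatedPrimes (MvPolynomial (Fin (n + 1)) k) M, (p : Set (MvPolynomial (Fin (n + 1)) k)) := Set.mem_biUnion hP (hle hxI)
    rw [biUnion_associatedPrimes_eq_compl_regular] at this
    exact this hx
  obtain ⟨e, he, f, hfI, hfe, hf⟩ := exists_homogeneous_notMem hI hI0 hfin.toFinset havoid
  have hreg : IsSMulRegular M f := by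
    by_contra hc
    have : f ∈ ⋃ p ∈ associatedPrimes (MvPolynomial (Fin (n + 1)) k) M, (p : Set (MvPolynomial (Fin (n + 1)) k)) := by
      rw [biUnion_associatedPrimes_eq_compl_regular]; exact hc
    obtain ⟨p, hp, hfp⟩ := Set.mem_iUnion₂.mp this
    exact hf p (hfin.mem_toFinset.mpr hp) hfp
  refine ⟨e, he, f, hfI, hfe, fun y hy => ?_, ?_⟩
  · have h0 : (Submodule.Quotient.mk y : M) = 0 := hreg (by
      show f • Submodule.Quotient.mk y = f • (0 : M)
      rw [smul_zero, ← Submodule.Quotient.mk_smul, Submodule.Quotient.mk_eq_zero, smul_eq_mul, smul_eq_mul,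
        Ideal.mul_top]
      exact hy)
    rwa [Submodule.Quotient.mk_eq_zero, smul_eq_mul, Ideal.mul_top] at h0
  · rw [isWeaklyRegular_append_iff]
    exact ⟨hrs, (isWeaklyRegular_singleton_iff _ _).2 hreg⟩

end Field

section Local

variable {A : Type u} [CommRing A] [IsLocalRing A] {n : ℕ}

local notation "𝒢" => homogeneousSubmodule (Fin (n + 1)) A
local notation "res" => MvPolynomial.map (σ := Fin (n + 1)) (IsLocalRing.residue A)

theorem isHomogeneous_map {I : Ideal (MvPolynomial (Fin (n + 1)) A)} (hI : I.IsHomogeneous 𝒢) :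
    (I.map res).IsHomogeneous (homogeneousSubmodule (Fin (n + 1)) (IsLocalRing.ResidueField A)) := by
  obtain ⟨s, hs⟩ := (Ideal.IsHomogeneous.iff_exists 𝒢 I).mp hI
  rw [hs, Ideal.map_span]
  refine Ideal.homogeneous_span _ _ ?_
  rintro _ ⟨_, ⟨⟨a, d, ha⟩, -, rfl⟩, rfl⟩
  exact ⟨d, IsHomogeneous.map ha _⟩

theorem exists_homogeneous_preimage {I : Ideal (MvPolynomial (Fin (n + 1)) A)} (hI : I.IsHomogeneous 𝒢)
    {f : MvPolynomial (Fin (n + 1)) (IsLocalRing.ResidueField A)} {e : ℕ} (hf : f ∈ I.map res)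
    (hfe : f ∈ homogeneousSubmodule (Fin (n + 1)) (IsLocalRing.ResidueField A) e) :
    ∃ F ∈ I, F ∈ 𝒢 e ∧ res F = f := by
  classical
  obtain ⟨F, hF, rfl⟩ := (Ideal.mem_map_iff_of_surjective res
    (MvPolynomial.map_surjective _ IsLocalRing.residue_surjective)).mp hf
  have e1 : (DirectSum.decompose 𝒢 F e : MvPolynomial (Fin (n + 1)) A) = homogeneousComponent e F :=
    MvPolynomial.decomposition.decompose'_apply F e
  refine ⟨_, hI e hF, (DirectSum.decompose 𝒢 F e).2, ?_⟩
  rw [e1]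
  have h2 : res F = homogeneousComponent e (res F) :=
    ((homogeneousComponent_of_mem hfe).trans (if_pos rfl)).symm
  rw [h2]
  ext v
  rw [coeff_map, coeff_homogeneousComponent, coeff_homogeneousComponent, coeff_map]
  split <;> simp

instance free_homogeneous (d : ℕ) : Module.Free A (homogeneousSubmodule (Fin (n + 1)) A d) := by
  rw [homogeneousSubmodule_eq_finsupp_supported]
  exact Module.Free.of_equiv (AddMonoidAlgebra.supportedEquivFinsupp _).symm

open ProjClosed in
/-- the thickening: a homogeneous ideal inside `I` with flat quotient, cutting out codimension `c` -/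
theorem exists_thickening (I : HomogeneousIdeal 𝒢) (hI : I.toIdeal ≤ RingHom.ker constantCoeff)
    (c : ℕ) (hht : ∀ P : Ideal (MvPolynomial (Fin (n + 1)) (IsLocalRing.ResidueField A)),
      P.IsPrime → I.toIdeal.map res ≤ P → (c : ℕ∞) ≤ P.height) :
    ∃ J : HomogeneousIdeal 𝒢, J.toIdeal ≤ I.toIdeal ∧ (∀ d, Module.Flat A (quotGrading J d)) ∧
      ∀ P : Ideal (MvPolynomial (Fin (n + 1)) (IsLocalRing.ResidueField A)),
        P.IsPrime → J.toIdeal.map res ≤ P → (c : ℕ∞) ≤ P.height := by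
  classical
  have hI0 : ∀ a ∈ I.toIdeal.map res,
      a ∈ homogeneousSubmodule (Fin (n + 1)) (IsLocalRing.ResidueField A) 0 → a = 0 := by
    intro a ha ha0
    obtain ⟨F, hF, hF0, rfl⟩ := exists_homogeneous_preimage I.isHomogeneous ha ha0
    have h1 : homogeneousComponent 0 F = F := (homogeneousComponent_of_mem hF0).trans (if_pos rfl)
    rw [homogeneousComponent_zero, ← constantCoeff_eq, RingHom.mem_ker.mp (hI hF), C_0] at h1
    rw [← h1, map_zero]
  suffices ∀ j ≤ c, ∃ (J : HomogeneousIdeal 𝒢) (rs : List (MvPolynomial (Fin (n + 1)) (IsLocalRing.ResidueField A))),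
      J.toIdeal ≤ I.toIdeal ∧ (∀ d, Module.Flat A (quotGrading J d)) ∧
      rs.length = j ∧ IsWeaklyRegular (MvPolynomial (Fin (n + 1)) (IsLocalRing.ResidueField A)) rs ∧
      J.toIdeal.map res = Ideal.ofList rs by
    obtain ⟨J, rs, hJI, hflat, hlen, hrs, hmap⟩ := this c le_rfl
    refine ⟨J, hJI, hflat, fun P hP hle => ?_⟩
    rw [hmap] at hle
    have h1 : (c : ℕ∞) ≤ LocCoh.idealDepth P (MvPolynomial (Fin (n + 1)) (IsLocalRing.ResidueField A)) :=
      hlen ▸ DepthLib.length_le_idealDepth hrs fun r hr => hle (Ideal.subset_span hr)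
    exact (Sect6.natCast_le_idealDepth_iff P c).1 h1 P hP le_rfl
  intro j hj
  induction j with
  | zero =>
    refine ⟨⊥, [], bot_le, fun d => ?_, rfl, IsWeaklyRegular.nil _ _, by simp⟩
    let ρ : 𝒢 d →ₗ[A] quotGrading (⊥ : HomogeneousIdeal 𝒢) d :=
      (Ideal.Quotient.mkₐ A (⊥ : HomogeneousIdeal 𝒢).toIdeal).toLinearMap.submoduleMap _
    refine Module.Flat.of_linearEquiv (LinearEquiv.ofBijective ρ ⟨?_, ?_⟩).symm
    · rw [injective_iff_map_eq_zero]
      intro a ha
      have := Ideal.Quotient.eq_zero_iff_mem.mp (congrArg Subtype.val ha)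
      exact Subtype.ext (by simpa using this)
    · rintro ⟨_, a, ha, rfl⟩
      exact ⟨⟨a, ha⟩, rfl⟩
  | succ j ih =>
    obtain ⟨J, rs, hJI, hflat, hlen, hrs, hmap⟩ := ih (Nat.le_of_succ_le hj)
    obtain ⟨e, he, f, hfI, hfe, hnzd, hrs'⟩ := exists_regular_form (I.toIdeal.map res)
      (isHomogeneous_map I.isHomogeneous) hI0 c hht rs hrs
      (fun r hr => Ideal.map_mono hJI (hmap ▸ Ideal.subset_span hr)) (by omega)
    obtain ⟨F, hFI, hFe, rfl⟩ := exists_homogeneous_preimage I.isHomogeneous hfI hfe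
    let J' : HomogeneousIdeal 𝒢 := ⟨J.toIdeal ⊔ Ideal.span {F},
      J.isHomogeneous.sup (Ideal.homogeneous_span _ _ (by rintro _ rfl; exact ⟨e, hFe⟩))⟩
    refine ⟨J', rs ++ [res F], sup_le hJI ((Ideal.span_singleton_le_iff_mem _).2 hFI),
      flat_step J J' hFe rfl hflat (fun x hx => hmap ▸ hnzd x (hmap ▸ hx)), by simp [hlen], hrs', ?_⟩
    show (J.toIdeal ⊔ Ideal.span {F}).map res = _
    rw [Ideal.map_sup, hmap, Ideal.map_span, Set.image_singleton, Ideal.ofList_append, Ideal.ofList_singleton]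

end Local

end Groth.Agent.ProjThick19
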