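import Groth.Agent.Lib.ProjDim18.Top
import Groth.Agent.Lib.FibDim14.Semicont
import Groth.Agent.Lib.ProjSpace.BaseChange

/-! Heights over an ideal versus the dimension of its zero set in projective space. -/

set_option autoImplicit false
set_option maxHeartbeats 800000

universe u

open CategoryTheory CategoryTheory.Limits AlgebraicGeometry MvPolynomial Order

namespace Groth.Agent.ProjThick19

attribute [local instance] MvPolynomial.gradedAlgebra

section Field

variable (k : Type u) [Field k] (N : ℕ)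

local notation "GR" => homogeneousSubmodule (Fin (N + 1)) k
local notation "PP" => ProjectiveSpectrum (CohB1.polyGrading N k)

theorem height_add_coheight_eq (P : Ideal (MvPolynomial (Fin (N + 1)) k)) [P.IsPrime] :
    P.height + coheight (⟨P, inferInstance⟩ : PrimeSpectrum (MvPolynomial (Fin (N + 1)) k))
      = ((N + 1 : ℕ) : ℕ∞) := by
  have := VarDim.height_add_coheight_mvPolynomial k (N + 1) ⟨P, inferInstance⟩
  rwa [← PrimeSpectrum.height_eq_orderHeight] at this

theorem coheight_irr :
    coheight (⟨ProjDeg17.irr k N, (ProjDeg17.isMaximal_irr k N).isPrime⟩ :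
      PrimeSpectrum (MvPolynomial (Fin (N + 1)) k)) = 0 := by
  rw [coheight_eq_zero]
  intro q hq
  exact ((ProjDeg17.isMaximal_irr k N).eq_of_le q.2.ne_top hq).ge

theorem le_height_of_dim_le (T : Set PP) (hT : IsClosed T) (n : ℕ)
    (hd : topologicalKrullDim ↥T ≤ (n : WithBot ℕ∞))
    (I : Ideal (MvPolynomial (Fin (N + 1)) k)) (hI : I.IsHomogeneous GR)
    (hIT : ∀ x : PP, I ≤ x.asHomogeneousIdeal.toIdeal → x ∈ T)
    (P : Ideal (MvPolynomial (Fin (N + 1)) k)) [P.IsPrime] (hP : I ≤ P) :
    ((N - n : ℕ) : ℕ∞) ≤ P.height := by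
  obtain ⟨Q, hQ, hQP⟩ := Ideal.exists_minimalPrimes_le hP
  haveI := hQ.1.1
  refine le_trans ?_ (Ideal.height_mono hQP)
  have h := height_add_coheight_eq k N Q
  by_cases hirr : ProjDeg17.irr k N ≤ Q
  · obtain rfl := (ProjDeg17.isMaximal_irr k N).eq_of_le (Ideal.IsPrime.ne_top ‹_›) hirr
    rw [coheight_irr, add_zero] at h
    rw [h]
    exact_mod_cast (by omega : N - n ≤ N + 1)
  · let x : PP := ProjDim18.mkPt k N Q inferInstance (ProjDeg17.isHomogeneous_of_mem_minimalPrimes hI hQ) hirr
    have hc := (ProjDim18.coheight_le_dim k N hT (hIT x hQ.1.2)).trans hd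
    have hc' : coheight x ≤ (n : ℕ∞) := by exact_mod_cast hc
    have h1 : coheight (⟨Q, inferInstance⟩ : PrimeSpectrum (MvPolynomial (Fin (N + 1)) k)) ≤ ((n + 1 : ℕ) : ℕ∞) := by
      refine ((ProjDim18.coheight_add_one k N x).symm.trans_le ?_)
      push_cast
      gcongr
    have h2 := add_le_add (le_refl Q.height) h1
    rw [h] at h2
    rcases eq_or_ne Q.height ⊤ with ht | ht
    · rw [ht]; exact le_top
    · obtain ⟨a, ha⟩ := ENat.ne_top_iff_exists.mp ht
      rw [← ha] at h2 ⊢
      have : N + 1 ≤ a + (n + 1) := by exact_mod_cast h2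
      exact_mod_cast (by omega : N - n ≤ a)

theorem dim_le_of_le_height (T : Set PP) (hT : IsClosed T) (n : ℕ)
    (hh : ∀ x ∈ T, ((N - n : ℕ) : ℕ∞) ≤ x.asHomogeneousIdeal.toIdeal.height) :
    topologicalKrullDim ↥T ≤ (n : WithBot ℕ∞) := by
  rw [ProjDim18.krullDim_closed k N T hT, Order.krullDim_eq_iSup_coheight]
  refine iSup_le fun y => ?_
  rw [ProjDim18.coheight_subtype k N hT y]
  haveI := y.1.isPrime
  have h := height_add_coheight_eq k N y.1.asHomogeneousIdeal.toIdeal
  have h1 : coheight (ProjDim18.conePt k N y.1) + y.1.asHomogeneousIdeal.toIdeal.height = ((N + 1 : ℕ) : ℕ∞) := by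
    rw [add_comm]; exact h
  rw [← ProjDim18.coheight_add_one] at h1
  have h2 := hh y.1 y.2
  generalize coheight y.1 = a at h1 ⊢
  generalize y.1.asHomogeneousIdeal.toIdeal.height = b at h1 h2
  have : a ≤ (n : ℕ∞) := by
    rcases eq_or_ne a ⊤ with rfl | ha
    · rw [top_add, top_add] at h1; exact absurd h1.symm (ENat.natCast_ne_top _)
    rcases eq_or_ne b ⊤ with rfl | hb
    · rw [add_top] at h1; exact absurd h1.symm (ENat.natCast_ne_top _)
    obtain ⟨a, rfl⟩ := ENat.ne_top_iff_exists.mp ha
    obtain ⟨b, rfl⟩ := ENat.ne_top_iff_exists.mp hb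
    have e1 : a + 1 + b = N + 1 := by exact_mod_cast h1
    have e2 : N - n ≤ b := by exact_mod_cast h2
    exact_mod_cast (by omega : a ≤ n)
  exact_mod_cast this

end Field

section Fibre

/-- dimension of a closed fibre of a closed subscheme, read in the fibre of projective space -/
theorem fibre_dim_eq {A : Type u} [CommRing A] [IsLocalRing A] (N : ℕ) {Z : Scheme.{u}}
    (j : Z ⟶ CohB1.ProjSpace N A) [IsClosedImmersion j] :
    topologicalKrullDim ↥((j ≫ CohB1.ProjSpace.toSpec N A).fiber (IsLocalRing.closedPoint A)) =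
      topologicalKrullDim ↥((ProjSpace.map N (IsLocalRing.residue A)).base ⁻¹' Set.range j.base) := by
  let π := CohB1.ProjSpace.toSpec N A
  let ι := ProjSpace.map N (IsLocalRing.residue A)
  let r := Spec.map (CommRingCat.ofHom (IsLocalRing.residue A))
  haveI : IsClosedImmersion r := IsClosedImmersion.spec_of_surjective _ IsLocalRing.residue_surjective
  have sq := ProjSpace.isPullback_map N (IsLocalRing.residue A)
  haveI : IsClosedImmersion ι := MorphismProperty.of_isPullback sq.flip inferInstance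
  have hr : Set.range r.base = {IsLocalRing.closedPoint A} := by
    ext x
    constructor
    · rintro ⟨y, rfl⟩; exact IsLocalRing.PrimeSpectrum.comap_residue A y
    · rintro rfl
      exact ⟨IsLocalRing.closedPoint _, IsLocalRing.PrimeSpectrum.comap_residue A _⟩
  have hι : Set.range ι.base = π.base ⁻¹' {IsLocalRing.closedPoint A} := by
    rw [← hr, ← Scheme.Pullback.range_fst]
    change Set.range (ProjSpace.map N (IsLocalRing.residue A)).base = _
    rw [← sq.isoPullback_hom_fst, Scheme.Hom.comp_base]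
    exact (Scheme.homeoOfIso sq.isoPullback).surjective.range_comp (pullback.fst π r).base
  let T := Set.range j.base ∩ π.base ⁻¹' {IsLocalRing.closedPoint A}
  have h1 : topologicalKrullDim ↥((j ≫ π).fiber (IsLocalRing.closedPoint A)) = topologicalKrullDim ↥T := by
    let g : ↥((j ≫ π).fiber (IsLocalRing.closedPoint A)) → CohB1.ProjSpace N A :=
      fun z => j.base (((j ≫ π).fiberι (IsLocalRing.closedPoint A)).base z)
    have hg : Topology.IsEmbedding g := j.isEmbedding.comp ((j ≫ π).fiberι _).isEmbedding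
    have hT : Set.range g = T := by
      ext y
      constructor
      · rintro ⟨z, rfl⟩
        refine ⟨⟨_, rfl⟩, ?_⟩
        have : ((j ≫ π).fiberι (IsLocalRing.closedPoint A)).base z ∈
          (j ≫ π).base ⁻¹' {IsLocalRing.closedPoint A} := (j ≫ π).range_fiberι _ ▸ Set.mem_range_self z
        simpa [g] using this
      · rintro ⟨⟨x, rfl⟩, hx⟩
        obtain ⟨z, hz⟩ : x ∈ Set.range ((j ≫ π).fiberι (IsLocalRing.closedPoint A)).base := by
          rw [(j ≫ π).range_fiberι]; exact hx
        exact ⟨z, congrArg j.base hz⟩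
    exact IsHomeomorph.topologicalKrullDim_eq _ (hg.toHomeomorph.trans (Homeomorph.setCongr hT)).isHomeomorph
  have h2 : topologicalKrullDim ↥(ι.base ⁻¹' Set.range j.base) = topologicalKrullDim ↥T := by
    let g : ↥(ι.base ⁻¹' Set.range j.base) → CohB1.ProjSpace N A := fun z => ι.base z.1
    have hg : Topology.IsEmbedding g := ι.isEmbedding.comp Topology.IsEmbedding.subtypeVal
    have hT : Set.range g = T := by
      show Set.range g = Set.range j.base ∩ π.base ⁻¹' {IsLocalRing.closedPoint A}
      rw [← hι]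
      ext y
      constructor
      · rintro ⟨⟨z, hz⟩, rfl⟩; exact ⟨hz, ⟨z, rfl⟩⟩
      · rintro ⟨hy, z, rfl⟩; exact ⟨⟨z, hy⟩, rfl⟩
    exact IsHomeomorph.topologicalKrullDim_eq _ (hg.toHomeomorph.trans (Homeomorph.setCongr hT)).isHomeomorph
  exact h1.trans h2.symm

theorem localDim_le_dim (X : Type u) [TopologicalSpace X] (x : X) :
    FlatMor.localDim X x ≤ topologicalKrullDim X :=
  iInf_le_of_le ⟨⊤, trivial⟩ (Topology.IsInducing.subtypeVal.topologicalKrullDim_le)

theorem dim_le_of_forall_localDim (X : Type u) [TopologicalSpace X] (n : WithBot ℕ∞)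
    (h : ∀ x : X, FlatMor.localDim X x ≤ n) : topologicalKrullDim X ≤ n := by
  refine iSup_le fun p => ?_
  obtain ⟨x, hx⟩ := p.head.isIrreducible'.nonempty
  refine le_trans (le_iInf fun U => ?_) (h x)
  have hne : ∀ i, ((p i : Set X) ∩ U.1).Nonempty := fun i => ⟨x, p.monotone (Fin.zero_le i) hx, U.2⟩
  have hcl : ∀ i, IsClosed (Subtype.val ⁻¹' (p i : Set X) : Set U.1) :=
    fun i => (p i).isClosed'.preimage continuous_subtype_val
  have hirr : ∀ i, IsIrreducible (Subtype.val ⁻¹' (p i : Set X) : Set U.1) := fun i => by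
    refine IsIrreducible.preimage (p i).isIrreducible' U.1.isOpen.isOpenEmbedding_subtypeVal ?_
    obtain ⟨y, hy, hyU⟩ := hne i
    exact ⟨y, hy, ⟨⟨y, hyU⟩, rfl⟩⟩
  let q : LTSeries (TopologicalSpace.IrreducibleCloseds U.1) :=
    { length := p.length
      toFun := fun i => ⟨_, hirr i, hcl i⟩
      step := fun i => by
        have hlt : p i.castSucc < p i.succ := p.step i
        refine lt_of_le_of_ne (Set.preimage_mono hlt.le) fun he => hlt.ne ?_
        refine le_antisymm hlt.le ?_
        show (p i.succ : Set X) ⊆ (p i.castSucc : Set X)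
        have h1 : ∀ y ∈ (p i.succ : Set X), y ∈ U.1 → y ∈ (p i.castSucc : Set X) := fun y hy hyU => by
          exact ((Set.ext_iff.mp he ⟨y, hyU⟩).mpr hy : _)
        intro y hy
        have hpre := (p i.succ).isIrreducible'.2 U.1.1 (p i.castSucc : Set X)ᶜ U.1.2
          (p i.castSucc).isClosed'.isOpen_compl (hne i.succ)
        by_contra hyn
        obtain ⟨z, hz, hzU, hzn⟩ := hpre ⟨y, hy, hyn⟩
        exact hzn (h1 z hz hzU) }
  exact le_iSup (fun q : LTSeries (TopologicalSpace.IrreducibleCloseds U.1) => (q.length : WithBot ℕ∞)) q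

/-- for a proper morphism to a local scheme the closed fibre bounds all fibre dimensions -/
theorem fibre_dim_le_of_closed {A : Type u} [CommRing A] [IsLocalRing A] {Z : Scheme.{u}}
    (f : Z ⟶ Spec (CommRingCat.of A)) [IsProper f] (n : ℕ)
    (h : topologicalKrullDim ↥(f.fiber (IsLocalRing.closedPoint A)) ≤ (n : WithBot ℕ∞))
    (s : Spec (CommRingCat.of A)) : topologicalKrullDim ↥(f.fiber s) ≤ (n : WithBot ℕ∞) := by
  have hall : ∀ z : Z, FlatMor.fibreDimAt f z ≤ (n : WithBot ℕ∞) := fun z => by
    have hcl : IsClosed (f.base '' closure {z}) := f.isClosedMap _ isClosed_closure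
    have hmem : IsLocalRing.closedPoint A ∈ f.base '' closure {z} :=
      (IsLocalRing.specializes_closedPoint (f.base z)).mem_closed hcl ⟨z, subset_closure rfl, rfl⟩
    obtain ⟨w, hw, hfw⟩ := hmem
    have hwd : FlatMor.fibreDimAt f w ≤ (n : WithBot ℕ∞) := by
      refine (localDim_le_dim _ _).trans ?_
      rwa [hfw]
    exact (specializes_iff_mem_closure.mpr hw).mem_open (FibDim14.isOpen_fibreDimAt_le f n) hwd
  refine dim_le_of_forall_localDim _ _ fun y => ?_
  have hy : f.base ((f.fiberι s).base y) = s := by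
    have : (f.fiberι s).base y ∈ f.base ⁻¹' {s} := f.range_fiberι s ▸ Set.mem_range_self y
    exact this
  have h1 := hall ((f.fiberι s).base y)
  rw [FibDim14.fibreDimAt_eq_localDim_preimage] at h1
  rw [FibDim14.localDim_of_range (f.fiberι s).isEmbedding (f.range_fiberι s) y rfl hy]
  refine le_trans (le_of_eq ?_) h1
  have key : ∀ (s' : Spec (CommRingCat.of A)) (_ : s' = s) (a : (f.fiberι s).base y ∈ f.base ⁻¹' {s'})
      (b : (f.fiberι s).base y ∈ f.base ⁻¹' {s}),
      FlatMor.localDim (f.base ⁻¹' {s} : Set Z) ⟨_, b⟩ = FlatMor.localDim (f.base ⁻¹' {s'} : Set Z) ⟨_, a⟩ := by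
    rintro _ rfl _ _; rfl
  exact key _ hy _ _

end Fibre

end Groth.Agent.ProjThick19
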