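import Groth.Agent.Lib.ProjThick19.Dim
import Groth.Agent.Lib.ProjThick19.Choose
import Groth.Agent.Lib.ProjClosed.Basic

/-! A closed subscheme of projective space over a local ring lies in a flat one of small dimension. -/

set_option autoImplicit false
set_option maxHeartbeats 1600000
set_option backward.isDefEq.respectTransparency false

universe u

open CategoryTheory CategoryTheory.Limits AlgebraicGeometry HomogeneousLocalization
open Groth.Agent.ProjClosed

namespace Groth.Agent.ProjThick19

variable {R A : Type u} [CommRing R] [CommRing A] [Algebra R A]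
  {𝒜 : ℕ → Submodule R A} [GradedAlgebra 𝒜]

theorem isClosedImmersion_quot (I : HomogeneousIdeal 𝒜) :
    IsClosedImmersion (Proj.map (quotHom I) (irrelevant_le_map I)) := by
  refine Groth.Agent.EGA2.map_of_forall_away (quotHom I) _ @IsClosedImmersion fun d hd t ht => ?_
  refine IsClosedImmersion.spec_of_surjective _
    (Groth.Agent.EGA2.away_map_surjective (quotHom I) ?_ hd ht)
  rintro n _ _ ⟨a, ha, rfl⟩
  exact ⟨a, ha, rfl⟩

theorem mem_range_quot_iff (I : HomogeneousIdeal 𝒜) (y : ProjectiveSpectrum 𝒜) :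
    y ∈ Set.range (Proj.map (quotHom I) (irrelevant_le_map I)).base ↔
      I.toIdeal ≤ y.asHomogeneousIdeal.toIdeal := by
  constructor
  · rintro ⟨q, rfl⟩ a ha
    show quotHom I a ∈ q.asHomogeneousIdeal.toIdeal
    rw [(quotHom_eq_zero_iff I a).2 ha]
    exact zero_mem _
  · intro hle
    haveI := y.isPrime
    have hcm : (y.asHomogeneousIdeal.toIdeal.map (Ideal.Quotient.mk I.toIdeal)).comap
        (Ideal.Quotient.mk I.toIdeal) = y.asHomogeneousIdeal.toIdeal := by
      rw [Ideal.comap_map_of_surjective _ Ideal.Quotient.mk_surjective, ← RingHom.ker_eq_comap_bot,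
        Ideal.mk_ker, sup_eq_left.2 hle]
    let q : ProjectiveSpectrum (quotGrading I) :=
      { asHomogeneousIdeal := y.asHomogeneousIdeal.map (quotHom I)
        isPrime := by
          rw [HomogeneousIdeal.toIdeal_map]
          exact Ideal.map_isPrime_of_surjective Ideal.Quotient.mk_surjective (by
            show RingHom.ker (Ideal.Quotient.mk I.toIdeal) ≤ _
            rw [Ideal.mk_ker]; exact hle)
        not_irrelevant_le := fun h => y.not_irrelevant_le ((HomogeneousIdeal.irrelevant_le _).2 fun i hi a ha => by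
          have h1 : quotHom I a ∈ (y.asHomogeneousIdeal.map (quotHom I)).toIdeal :=
            h (HomogeneousIdeal.mem_irrelevant_of_mem _ hi ((quotHom I).2 ha))
          rw [HomogeneousIdeal.toIdeal_map] at h1
          exact hcm.le h1) }
    refine ⟨q, ProjectiveSpectrum.ext (HomogeneousIdeal.toIdeal_injective ?_)⟩
    refine Eq.trans ?_ hcm
    show (q.asHomogeneousIdeal.toIdeal).comap (quotHom I) = _
    simp only [q, HomogeneousIdeal.toIdeal_map]
    rfl

noncomputable def factorHom {J I : HomogeneousIdeal 𝒜} (h : J.toIdeal ≤ I.toIdeal) :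
    quotGrading J →+*ᵍ quotGrading I where
  toRingHom := Ideal.Quotient.factor h
  map_mem {_} x hx := by obtain ⟨a, ha, rfl⟩ := hx; exact ⟨a, ha, rfl⟩

theorem irrelevant_le_map_factor {J I : HomogeneousIdeal 𝒜} (h : J.toIdeal ≤ I.toIdeal) :
    HomogeneousIdeal.irrelevant (quotGrading I) ≤
      (HomogeneousIdeal.irrelevant (quotGrading J)).map (factorHom h) := by
  refine (HomogeneousIdeal.irrelevant_le _).2 fun i hi x hx => ?_
  obtain ⟨a, ha, rfl⟩ := hx
  exact Ideal.mem_map_of_mem _ (HomogeneousIdeal.mem_irrelevant_of_mem _ hi ⟨a, ha, rfl⟩ :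
    Ideal.Quotient.mk J.toIdeal a ∈ (HomogeneousIdeal.irrelevant (quotGrading J)).toIdeal)

theorem flat_quot_toBase (J : HomogeneousIdeal 𝒜) (hflat : ∀ d, Module.Flat R (quotGrading J d)) :
    Flat (Proj.map (quotHom J) (irrelevant_le_map J) ≫ Proj.toSpecZero 𝒜 ≫
      Spec.map (CommRingCat.ofHom (algebraMap R (𝒜 0)))) := by
  refine IsZariskiLocalAtSource.of_openCover
    (Proj.mapAffineOpenCover (quotHom J) (irrelevant_le_map J)).openCover fun s => ?_
  change Flat (Proj.awayι (quotGrading J) (quotHom J s.2.1) ((quotHom J).2 s.2.2) s.1.2 ≫ _)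
  rw [← Category.assoc, Proj.awayι_comp_map _ _ s.1.2 s.2.1 s.2.2, Category.assoc,
    Proj.awayι_toSpecZero_assoc, ← Spec.map_comp, ← Spec.map_comp]
  rw [HasRingHomProperty.Spec_iff (P := @Flat)]
  have e : ((Away.map (quotHom J) s.2.1).comp
      ((fromZeroRingHom 𝒜 (Submonoid.powers s.2.1)).comp (algebraMap R (𝒜 0)))) =
      (fromZeroRingHom (quotGrading J) (Submonoid.powers (quotHom J s.2.1))).comp
        (algebraMap R (quotGrading J 0)) := by
    refine RingHom.ext fun r => HomogeneousLocalization.val_injective _ ?_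
    rfl
  have h := flat_away hflat ((quotHom J).2 s.2.2)
  change ((Away.map (quotHom J) s.2.1).comp
      ((fromZeroRingHom 𝒜 (Submonoid.powers s.2.1)).comp (algebraMap R (𝒜 0)))).Flat
  rw [e]
  exact h

section Local

attribute [local instance] MvPolynomial.gradedAlgebra

variable {B : Type u} [CommRing B] [IsLocalRing B]

/-- the thickening inside `Proj` -/
theorem exists_thickening_proj (N n : ℕ) {X : Scheme.{u}} (i : X ⟶ CohB1.ProjSpace N B) [IsClosedImmersion i]
    (hdim : topologicalKrullDim ↥((i ≫ CohB1.ProjSpace.toSpec N B).fiber (IsLocalRing.closedPoint B))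
      ≤ (n : WithBot ℕ∞)) :
    ∃ (Z : Scheme.{u}) (j : Z ⟶ CohB1.ProjSpace N B) (g : X ⟶ Z),
      IsClosedImmersion j ∧ IsClosedImmersion g ∧ g ≫ j = i ∧ Flat (j ≫ CohB1.ProjSpace.toSpec N B) ∧
      topologicalKrullDim ↥((j ≫ CohB1.ProjSpace.toSpec N B).fiber (IsLocalRing.closedPoint B))
        ≤ (n : WithBot ℕ∞) := by
  classical
  let 𝒢 := CohB1.polyGrading N B
  let s : Finset (MvPolynomial (Fin (N + 1)) B) := Finset.univ.image MvPolynomial.X
  have hs1 : ∀ f ∈ s, f ∈ 𝒢 1 := by
    intro f hf
    obtain ⟨l, -, rfl⟩ := Finset.mem_image.mp hf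
    exact MvPolynomial.isHomogeneous_X B l
  have hs : (HomogeneousIdeal.irrelevant 𝒢).toIdeal ≤ Ideal.span (s : Set (MvPolynomial (Fin (N + 1)) B)) := by
    refine (ProjSpace.irrelevant_le_span N B).trans (Ideal.span_mono ?_)
    rintro _ ⟨l, rfl⟩
    simp [s]
  let I := idealOf i s hs1
  obtain ⟨e, he⟩ := exists_iso i s hs1 hs (quotHom I) (quotHom_surjective I)
    (fun m a ha => (quotHom_eq_zero_iff I a).trans (mem_idealOf_iff i s hs1 ha)) (irrelevant_le_map I)
  let I' : HomogeneousIdeal 𝒢 := ⟨I.toIdeal ⊓ (HomogeneousIdeal.irrelevant 𝒢).toIdeal,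
    I.isHomogeneous.inf (HomogeneousIdeal.irrelevant 𝒢).isHomogeneous⟩
  have hI'0 : I'.toIdeal ≤ RingHom.ker (MvPolynomial.constantCoeff) := by
    intro a ha
    have h0 : GradedRing.proj 𝒢 0 a = 0 := (HomogeneousIdeal.mem_irrelevant_iff 𝒢 a).1 ha.2
    rw [GradedRing.proj_apply] at h0
    have h1 : MvPolynomial.homogeneousComponent 0 a = 0 :=
      (MvPolynomial.decomposition.decompose'_apply a 0).symm.trans h0
    rwa [MvPolynomial.homogeneousComponent_zero, MvPolynomial.C_eq_zero, ← MvPolynomial.constantCoeff_eq] at h1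
  let r := IsLocalRing.residue B
  let ι := ProjSpace.map N r
  let T : Set (ProjectiveSpectrum (CohB1.polyGrading N (IsLocalRing.ResidueField B))) :=
    ι.base ⁻¹' Set.range i.base
  have hT : IsClosed T := i.isClosedEmbedding.isClosed_range.preimage ι.continuous
  have hdT : topologicalKrullDim ↥T ≤ (n : WithBot ℕ∞) := (fibre_dim_eq N i).symm.trans_le hdim
  have hrange : Set.range i.base = Set.range (Proj.map (quotHom I) (irrelevant_le_map I)).base := by
    rw [← he, Scheme.Hom.comp_base]
    exact (Scheme.homeoOfIso e).surjective.range_comp (Proj.map (quotHom I) (irrelevant_le_map I)).base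
  have hIT : ∀ x : ProjectiveSpectrum (CohB1.polyGrading N (IsLocalRing.ResidueField B)),
      I'.toIdeal.map (MvPolynomial.map r) ≤ x.asHomogeneousIdeal.toIdeal → x ∈ T := by
    intro x hx
    show ι.base x ∈ Set.range i.base
    rw [hrange]
    refine (mem_range_quot_iff I (ι.base x)).2 fun a ha => ?_
    let y : ProjectiveSpectrum 𝒢 := ι.base x
    obtain ⟨b, hb, hby⟩ := SetLike.not_le_iff_exists.mp y.not_irrelevant_le
    have h1 : a * b ∈ y.asHomogeneousIdeal.toIdeal :=
      hx (Ideal.mem_map_of_mem _ (⟨I.toIdeal.mul_mem_right _ ha, Ideal.mul_mem_left _ _ hb⟩ : a * b ∈ I'.toIdeal))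
    exact (y.isPrime.mem_or_mem h1).resolve_right hby
  obtain ⟨J, hJI, hflat, hJh⟩ := exists_thickening I' hI'0 (N - n) fun P hP hle =>
    haveI := hP
    le_height_of_dim_le _ N T hT n hdT _ (isHomogeneous_map I'.isHomogeneous) hIT P hle
  have hle : J.toIdeal ≤ I.toIdeal := hJI.trans inf_le_left
  let ψ := Proj.map (factorHom hle) (irrelevant_le_map_factor hle)
  let j := Proj.map (quotHom J) (irrelevant_le_map J)
  have hcomp : ψ ≫ j = Proj.map (quotHom I) (irrelevant_le_map I) :=
    (Proj.map_comp (quotHom J) (factorHom hle) (irrelevant_le_map J) (irrelevant_le_map_factor hle)).symm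
  haveI : IsClosedImmersion j := isClosedImmersion_quot J
  have hgj : (e.hom ≫ ψ) ≫ j = i := by rw [Category.assoc, hcomp, he]
  refine ⟨Proj (quotGrading J), j, e.hom ≫ ψ, inferInstance, ?_, hgj, flat_quot_toBase J hflat, ?_⟩
  · haveI : IsClosedImmersion ((e.hom ≫ ψ) ≫ j) := hgj.symm ▸ inferInstance
    exact IsClosedImmersion.of_comp (e.hom ≫ ψ) j
  · rw [fibre_dim_eq N j]
    refine dim_le_of_le_height _ N _ (j.isClosedEmbedding.isClosed_range.preimage ι.continuous) n fun x hx => ?_
    refine hJh _ x.isPrime (Ideal.map_le_iff_le_comap.2 ?_)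
    exact (mem_range_quot_iff J (ι.base x)).1 hx

end Local

end Groth.Agent.ProjThick19
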